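import Mathlib
import Cfsg.Prelude
import Cfsg.Agent.HallHigman.Drop
import Cfsg.Agent.HallHigman.SplitModule
import Cfsg.Agent.Elementary.Basics
import Cfsg.Agent.GaschutzYen.Basic
import Cfsg.Agent.SolvStruct.CoprimeOrbits
import Cfsg.Agent.Components.CoprimeKer
import Cfsg.Agent.S4748
import Cfsg.Agent.S3783

/-!
Where the socle of a `p`-element of largest order lies in a `p`-soluble group (`p` odd): modulo
`O_{p'}` it lies in the largest normal `{2,p}`-subgroup.  This is an application of Theorem B of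
Hall and Higman.
-/

set_option autoImplicit false
set_option linter.unusedSectionVars false
set_option linter.style.haveILetI false

namespace Cfsg.Lib.PowellGen

open Subgroup Cfsg.Lib.Elementary Cfsg.Lib.Components Cfsg.Lib.Coprime

universe u

/-- Two subgroups of coprime index have product the whole group. -/
theorem exists_mul_of_coprime_index {R : Type u} [Group R] [Finite R] (S C : Subgroup R)
    (h : S.index.Coprime C.index) (n : R) : ∃ s ∈ S, ∃ c ∈ C, n = s * c := by
  let f : S ⧸ C.subgroupOf S → R ⧸ C := Quotient.map' (fun s => (s : R)) (fun a b hab => by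
    rw [QuotientGroup.leftRel_apply] at hab ⊢
    exact mem_subgroupOf.1 hab)
  have hf : Function.Injective f := by
    intro a b hab
    induction a using Quotient.inductionOn' with
    | h a =>
      induction b using Quotient.inductionOn' with
      | h b =>
        refine Quotient.sound' ?_
        have h1 := Quotient.exact' hab
        rw [QuotientGroup.leftRel_apply] at h1 ⊢
        exact mem_subgroupOf.2 h1
  have h1 : C.relIndex S * S.index = (C ⊓ S).index := by
    rw [← inf_relIndex_right C S]; exact relIndex_mul_index inf_le_right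
  have h2 : C.index ∣ (C ⊓ S).index := index_dvd_of_le inf_le_left
  have h3 : C.index ∣ C.relIndex S := by
    rw [← h1] at h2
    exact (Nat.Coprime.symm h).dvd_of_dvd_mul_right h2
  have hbij : Function.Bijective f := (Nat.bijective_iff_injective_and_card f).2 ⟨hf,
    le_antisymm (Nat.card_le_card_of_injective f hf)
      (Nat.le_of_dvd Nat.card_pos h3)⟩
  obtain ⟨a, ha⟩ := hbij.2 (QuotientGroup.mk n)
  induction a using Quotient.inductionOn' with
  | h a =>
    exact ⟨a, a.2, (a : R)⁻¹ * n, QuotientGroup.eq.1 ha, (mul_inv_cancel_left _ _).symm⟩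

variable {H : Type u} [Group H] [Finite H] {p : ℕ} [hp : Fact p.Prime]

/-- If `y` centralizes every `a`-invariant `q`-subgroup, `q` odd, of a normal `p'`-subgroup `N`,
then all commutators of `y` with `N` lie in a normal `2`-subgroup. -/
theorem commutator_mem_two (N : Subgroup H) [N.Normal] (a y : H)
    (ha : IsPGroup p (zpowers a)) (hy : y ∈ zpowers a) (hN : (Nat.card N).Coprime p)
    (h : ∀ q : ℕ, q.Prime → q ≠ 2 → ∀ T : Subgroup H, T ≤ N → IsPGroup q T →
      a ∈ normalizer (T : Set H) → ∀ t ∈ T, t * y = y * t) :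
    ∃ M : Subgroup H, M.Normal ∧ IsPGroup 2 M ∧ ∀ n ∈ N, n * y * n⁻¹ * y⁻¹ ∈ M := by
  classical
  haveI : Fact (Nat.Prime 2) := ⟨Nat.prime_two⟩
  have haN : zpowers a ≤ normalizer (N : Set H) := by
    rw [normalizer_eq_top_iff.2 inferInstance]; exact le_top
  have hcop : (Nat.card (zpowers a)).Coprime (Nat.card N) := by
    obtain ⟨j, hj⟩ := IsPGroup.iff_card.1 ha
    rw [hj]; exact hN.symm.pow_left _
  set C := (centralizer ({y} : Set H)).subgroupOf N with hC
  have hCodd : ∀ q : ℕ, q.Prime → q ≠ 2 → ¬ q ∣ C.index := by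
    intro q hq hq2 hd
    haveI := Fact.mk hq
    obtain ⟨T, hT⟩ := exists_invariant_sylow haN hcop (Or.inl inferInstance) q
    refine T.not_dvd_index (hd.trans (index_dvd_of_le fun t ht => ?_))
    exact mem_centralizer_singleton_iff.2 (h q hq hq2 _ (map_subtype_le _) (T.2.map _)
      (hT (mem_zpowers a)) _ (mem_map_of_mem _ ht))
  obtain ⟨S, hS⟩ := exists_invariant_sylow haN hcop (Or.inl inferInstance) 2
  have hidx : (S : Subgroup N).index.Coprime C.index := Nat.coprime_of_dvd fun q hq h1 h2 => by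
    rcases eq_or_ne q 2 with rfl | hq2
    · exact S.not_dvd_index h1
    · exact hCodd q hq hq2 h2
  have hyS : y ∈ normalizer (((S : Subgroup N).map N.subtype : Subgroup H) : Set H) :=
    (zpowers_le.2 (hS (mem_zpowers a))) hy
  have hmem : ∀ n ∈ N, n * y * n⁻¹ * y⁻¹ ∈ (S : Subgroup N).map N.subtype := by
    intro n hn
    obtain ⟨s, hs, c, hc, hsc⟩ := exists_mul_of_coprime_index (S : Subgroup N) C hidx ⟨n, hn⟩
    have e : n = (s : H) * c := congrArg Subtype.val hsc
    have hcy : (c : H) * y = y * c := mem_centralizer_singleton_iff.1 hc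
    have hcy' : (c : H) * y * (c : H)⁻¹ = y := by rw [hcy]; group
    have hsm : (s : H) ∈ (S : Subgroup N).map N.subtype := mem_map_of_mem _ hs
    have e2 : n * y * n⁻¹ * y⁻¹ = (s : H) * (y * (s : H)⁻¹ * y⁻¹) := by
      rw [e, show (s : H) * c * y * ((s : H) * c)⁻¹ = s * ((c : H) * y * (c : H)⁻¹) * (s : H)⁻¹ by
        group, hcy']
      group
    rw [e2]
    exact mul_mem hsm ((mem_normalizer_iff.1 hyS _).1 (inv_mem hsm))
  set K := Subgroup.closure {m : H | ∃ n ∈ N, m = n * y * n⁻¹ * y⁻¹} with hK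
  have hKS : K ≤ (S : Subgroup N).map N.subtype := (closure_le _).2 (by
    rintro m ⟨n, hn, rfl⟩; exact hmem n hn)
  have hKN : K ≤ N := hKS.trans (map_subtype_le _)
  have hKn : ∀ u ∈ N, ∀ m ∈ K, u * m * u⁻¹ ∈ K := by
    intro u hu m hm
    suffices K ≤ K.comap (MulAut.conj u).toMonoidHom from this hm
    refine (closure_le _).2 ?_
    rintro m ⟨n, hn, rfl⟩
    show u * (n * y * n⁻¹ * y⁻¹) * u⁻¹ ∈ K
    rw [show u * (n * y * n⁻¹ * y⁻¹) * u⁻¹ =
      (u * n * y * (u * n)⁻¹ * y⁻¹) * (u * y * u⁻¹ * y⁻¹)⁻¹ by group]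
    exact mul_mem (Subgroup.subset_closure ⟨_, mul_mem hu hn, rfl⟩)
      (inv_mem (Subgroup.subset_closure ⟨u, hu, rfl⟩))
  haveI : (K.subgroupOf N).Normal := ⟨fun m hm u => hKn u u.2 m hm⟩
  have hKp : K.subgroupOf N ≤ pCore 2 N := by
    refine le_pCore ?_
    exact ((S.2.map N.subtype).to_le hKS).of_equiv (subgroupOfEquivOfLe hKN).symm
  refine ⟨(pCore 2 N).map N.subtype, ?_, (isPGroup_pCore 2).map _, fun n hn => ?_⟩
  · haveI : (pCore 2 (N : Subgroup H)).Characteristic := pCore_characteristic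
    exact ConjAct.normal_of_characteristic_of_normal
  · have h1 : n * y * n⁻¹ * y⁻¹ ∈ K := Subgroup.subset_closure ⟨n, hn, rfl⟩
    exact ⟨⟨_, hKN h1⟩, hKp h1, rfl⟩

/-- Frattini argument for one element: it can be corrected to normalize a Sylow subgroup. -/
theorem exists_mul_mem_normalizer {q : ℕ} [Fact q.Prime] (X : Subgroup H) (S : Sylow q X) (x : H)
    (hx : x ∈ normalizer (X : Set H)) :
    ∃ u ∈ X, u * x ∈ normalizer (((S : Subgroup X).map X.subtype : Subgroup H) : Set H) := by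
  set P₀ := (S : Subgroup X).map X.subtype with hP₀
  have hle : conjMap x P₀ ≤ X := by
    have := conjMap_mono (g := x) (map_subtype_le (S : Subgroup X))
    rwa [conjMap_eq_self hx] at this
  obtain ⟨k, hk⟩ := MulAction.exists_smul_eq X S (Sylow.ofCard ((conjMap x P₀).subgroupOf X) (by
    rw [Nat.card_congr (subgroupOfEquivOfLe hle).toEquiv, card_conjMap, hP₀,
      Subgroup.card_map_of_injective X.subtype_injective, S.card_eq_multiplicity]))
  have h2 : conjMap (k : H) P₀ = conjMap x P₀ := by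
    rw [hP₀, ← map_subtype_smul, hk, Sylow.coe_ofCard, map_subgroupOf_eq_of_le hle]
  refine ⟨(k : H)⁻¹, inv_mem k.2, ?_⟩
  rw [← conjMap_eq_self_iff, ← conjMap_mul, ← h2, conjMap_inv_conjMap]

theorem mul_pow_mem {T : Subgroup H} {t x : H} (ht : t ∈ T) (hx : x ∈ normalizer (T : Set H)) :
    ∀ n : ℕ, ∃ t' ∈ T, (t * x) ^ n = t' * x ^ n := by
  intro n
  induction n with
  | zero => exact ⟨1, one_mem _, by simp⟩
  | succ n ih =>
    obtain ⟨t', ht', e⟩ := ih
    refine ⟨t' * (x ^ n * t * (x ^ n)⁻¹), mul_mem ht' ((mem_normalizer_iff.1 (pow_mem hx n) t).1 ht), ?_⟩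
    rw [pow_succ, e, pow_succ]
    group

/-- The socle of a cyclic `p`-group lies in each nontrivial subgroup. -/
theorem socle_mem_zpowers {k : ℕ} {b z : H} (hb : b ^ p ^ (k + 1) = 1) (hz : z ∈ zpowers b)
    (hz1 : z ≠ 1) : b ^ p ^ k ∈ zpowers z := by
  obtain ⟨j, rfl⟩ := (mem_powers_iff_mem_zpowers (x := b) (y := z)).2 hz
  simp only [] at hz hz1 ⊢
  obtain ⟨l, hl, hl'⟩ := (Nat.dvd_prime_pow hp.out).1 (Nat.gcd_dvd_right j (p ^ (k + 1)))
  have hlk : l ≤ k := by
    rcases Nat.lt_or_ge k l with h | h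
    · exfalso
      obtain rfl : l = k + 1 := by omega
      obtain ⟨c, hc⟩ := hl' ▸ Nat.gcd_dvd_left j (p ^ (k + 1))
      exact hz1 (by rw [hc, pow_mul, hb, one_pow])
    · exact h
  have h1 : b ^ p ^ l ∈ zpowers (b ^ j) := by
    have e := Nat.gcd_eq_gcd_ab j (p ^ (k + 1))
    rw [hl'] at e
    rw [← zpow_natCast b (p ^ l), e, zpow_add, zpow_mul, zpow_natCast, zpow_mul, zpow_natCast, hb,
      one_zpow, mul_one]
    exact zpow_mem (mem_zpowers _) _
  rw [show p ^ k = p ^ l * p ^ (k - l) by rw [← pow_add]; congr 1; omega, pow_mul]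
  exact pow_mem h1 _

/-- The Hall–Higman step: a `p`-element of order `p^(k+1)` whose socle moves an invariant subgroup
of odd prime power order has minimal polynomial of full degree. -/
theorem full_degree (hp2 : p ≠ 2) (hsol : IsPSolvable p H) {V : Type u} [AddCommGroup V]
    [Module (ZMod p) V] [Finite V] (ρ : H →* Module.End (ZMod p) V) (hρ : Function.Injective ρ)
    {q : ℕ} (hq : q.Prime) (hq2 : q ≠ 2) (hqp : q ≠ p) (S : Subgroup H) (hS : IsPGroup q S)
    (k : ℕ) (b : H) (hb : b ^ p ^ (k + 1) = 1) (hbS : b ∈ normalizer (S : Set H))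
    (hmove : ∃ s ∈ S, s * b ^ p ^ k ≠ b ^ p ^ k * s)
    (hr : (ρ b - 1) ^ (p ^ (k + 1) - 1) = 0) : False := by
  haveI := Fact.mk hq
  have hb1 : b ^ p ^ k ≠ 1 := fun h => by
    obtain ⟨s, -, hne⟩ := hmove
    exact hne (by rw [h, mul_one, one_mul])
  have hob : orderOf b = p ^ (k + 1) := orderOf_eq_prime_pow hb1 hb
  have hbp : IsPGroup p (zpowers b) := IsPGroup.of_card (n := k + 1) (by rw [Nat.card_zpowers, hob])
  set K := S ⊔ zpowers b with hK
  have hbn : zpowers b ≤ normalizer (S : Set H) := zpowers_le.2 hbS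
  have hcop : (Nat.card (zpowers b)).Coprime (Nat.card S) := by
    obtain ⟨i, hi⟩ := IsPGroup.iff_card.1 hS
    rw [Nat.card_zpowers, hob, hi]
    exact Nat.coprime_pow_primes _ _ hp.out hq (Ne.symm hqp)
  have hcard : Nat.card K = Nat.card S * Nat.card (zpowers b) := card_sup_coprime hbn hcop.symm
  haveI : Nontrivial V := by
    by_contra hV
    rw [not_nontrivial_iff_subsingleton] at hV
    haveI := hV
    exact hb1 (hρ (LinearMap.ext fun v => Subsingleton.elim _ _))
  let ρK : K →* Module.End (ZMod p) V := ρ.comp K.subtype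
  have hρK : Function.Injective ρK := hρ.comp Subtype.val_injective
  have hsK : IsPSolvable p K := Cfsg.Lib.SolvStruct.CoprimeOrbits.isPSolvable_subgroup hsol hp.out K
  have hbK : b ∈ K := mem_sup_right (mem_zpowers b)
  haveI : (S.subgroupOf K).Normal :=
    normal_subgroupOf_of_le_normalizer (sup_le le_normalizer hbn)
  have hOp : pCore p K = ⊥ := by
    rw [eq_bot_iff]
    intro z hz
    rw [mem_bot]
    by_contra hz1
    set B := (zpowers b).subgroupOf K with hB
    have hBp : IsPGroup p B := hbp.of_equiv (subgroupOfEquivOfLe le_sup_right).symm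
    have hBcard : Nat.card B = Nat.card (zpowers b) :=
      Nat.card_congr (subgroupOfEquivOfLe le_sup_right).toEquiv
    have hBidx : ¬ p ∣ B.index := by
      intro hd
      have h1 : B.index = Nat.card S := by
        have h2 := B.card_mul_index
        rw [hcard, hBcard, mul_comm (Nat.card S)] at h2
        exact Nat.eq_of_mul_eq_mul_left Nat.card_pos h2
      rw [h1] at hd
      exact hp.out.ne_one (Nat.eq_one_of_dvd_coprimes hcop
        (by rw [Nat.card_zpowers, hob]; exact dvd_pow_self p (Nat.succ_ne_zero k)) hd)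
    have hle : pCore p K ≤ ((hBp.toSylow hBidx : Sylow p K) : Subgroup K) :=
      (isPGroup_pCore p).le_sylow_of_normal _
    have hzb : (z : H) ∈ zpowers b := hle hz
    obtain ⟨m, hm⟩ := mem_zpowers_iff.1 (socle_mem_zpowers hb hzb fun e => hz1 (Subtype.ext e))
    have hyc : (⟨b, hbK⟩ : K) ^ p ^ k ∈ pCore p K := by
      have : (⟨b, hbK⟩ : K) ^ p ^ k = z ^ m := Subtype.ext (by simpa using hm.symm)
      rw [this]; exact zpow_mem hz m
    obtain ⟨s, hs, hne⟩ := hmove
    have hd : Disjoint (S.subgroupOf K) (pCore p K) :=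
      IsPGroup.disjoint_of_ne q p hqp _ _ (hS.of_equiv (subgroupOfEquivOfLe le_sup_left).symm)
        (isPGroup_pCore p)
    have h := commute_of_normal_of_disjoint (S.subgroupOf K) (pCore p K) inferInstance
      (pCore_normal' p) hd ⟨s, mem_sup_left hs⟩ ((⟨b, hbK⟩ : K) ^ p ^ k) hs hyc
    exact hne (by simpa using congrArg Subtype.val h.eq)
  rcases Cfsg.Lib.HallHigman.theorem_B_field hsK hOp ρK hρK ⟨b, hbK⟩ (k + 1)
      (by rw [Subgroup.orderOf_mk, hob]) _ hr with h | ⟨n₀, r, m, -, -, hr', -, h4, h5, -⟩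
  · have := pow_pos hp.out.pos (k + 1)
    omega
  · have hodd : Odd p := hp.out.odd_of_ne_two hp2
    have heven : Even (r ^ m) := h4 ▸ ((hodd.pow).tsub_odd odd_one)
    obtain rfl : r = 2 := hr'.even_iff.1 (Nat.even_pow.1 heven).1
    haveI : Fact (Nat.Prime 2) := ⟨Nat.prime_two⟩
    obtain ⟨Q⟩ := (inferInstance : Nonempty (Sylow 2 K))
    have hKodd : ¬ 2 ∣ Nat.card K := by
      rw [hcard, Nat.card_zpowers, hob]
      obtain ⟨i, hi⟩ := IsPGroup.iff_card.1 hS
      rw [hi]
      intro h2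
      rcases Nat.prime_two.dvd_mul.1 h2 with h2 | h2
      · exact hq2 ((Nat.prime_dvd_prime_iff_eq Nat.prime_two hq).1 (Nat.prime_two.dvd_of_dvd_pow h2)).symm
      · exact hp2 ((Nat.prime_dvd_prime_iff_eq Nat.prime_two hp.out).1 (Nat.prime_two.dvd_of_dvd_pow h2)).symm
    obtain ⟨i, hi⟩ := IsPGroup.iff_card.1 Q.2
    have hQ1 : Nat.card Q = 1 := by
      rcases Nat.eq_zero_or_pos i with rfl | hipos
      · simpa using hi
      · exact absurd ((dvd_pow_self 2 hipos.ne').trans (hi ▸ card_subgroup_dvd_card _)) hKodd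
    haveI : Subsingleton Q := (Nat.card_eq_one_iff_unique.1 hQ1).1
    exact h5 Q ⟨⟨fun a b => Subsingleton.elim _ _⟩⟩

theorem piCore_quotient_piCore {π : Set ℕ} : piCore π (H ⧸ piCore π H) = ⊥ := by
  set mk := QuotientGroup.mk' (piCore π H)
  have hs := QuotientGroup.mk'_surjective (piCore π H)
  have hle : (piCore π (H ⧸ piCore π H)).comap mk ≤ piCore π H := by
    refine le_piCore fun q hq hd => ?_
    rw [card_comap_of_surjective hs, QuotientGroup.ker_mk'] at hd
    rcases hq.dvd_mul.1 hd with h | h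
    exacts [piCore_isPi π q hq h, piCore_isPi π q hq h]
  rw [eq_bot_iff, ← Subgroup.map_comap_eq_self_of_surjective hs (piCore π (H ⧸ piCore π H))]
  exact (Subgroup.map_mono hle).trans (QuotientGroup.map_mk'_self _).le

theorem isPGroup_le_piCore {π : Set ℕ} {q : ℕ} (hq : q.Prime) (hqπ : q ∈ π) {M : Subgroup H}
    [M.Normal] (hM : IsPGroup q M) : M ≤ piCore π H := by
  haveI := Fact.mk hq
  refine le_piCore fun r hr hd => ?_
  obtain ⟨i, hi⟩ := IsPGroup.iff_card.1 hM
  rw [hi] at hd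
  rwa [(Nat.prime_dvd_prime_iff_eq hr hq).1 (hr.dvd_of_dvd_pow hd)]

/-- Exponent of the Sylow `p`-subgroups, element form. -/
theorem pow_eq_one_of_exp {n : ℕ} (hexp : ∀ P : Sylow p H, ∀ x ∈ (P : Subgroup H), x ^ p ^ n = 1)
    {x : H} (hx : IsPGroup p (zpowers x)) : x ^ p ^ n = 1 := by
  obtain ⟨P, hP⟩ := hx.exists_le_sylow
  exact hexp P x (hP (mem_zpowers x))

set_option maxHeartbeats 800000 in
/-- The core of the argument, in a group with trivial `p`-core and a faithful module with the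
norm identity. -/
theorem socle_mem_piCore_of_module (hp2 : p ≠ 2) (hsol : IsPSolvable p H) {V : Type u}
    [AddCommGroup V] [Module (ZMod p) V] [Finite V] (ρ : H →* Module.End (ZMod p) V)
    (hρ : Function.Injective ρ) (k : ℕ)
    (hexp : ∀ P : Sylow p H, ∀ x ∈ (P : Subgroup H), x ^ p ^ (k + 1) = 1)
    (hnorm : ∀ h : H, (∃ i : ℕ, orderOf h = p ^ i) → (ρ h - 1) ^ (p ^ (k + 1) - 1) = 0)
    (a : H) (ha : a ^ p ^ (k + 1) = 1) : a ^ p ^ k ∈ piCore ({2, p} : Set ℕ) H := by
  classical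
  generalize hπdef : ({2, p} : Set ℕ) = π
  set B := piCore π H with hB
  set mk := QuotientGroup.mk' B with hmk
  have hmks : Function.Surjective mk := QuotientGroup.mk'_surjective B
  rw [← QuotientGroup.eq_one_iff]
  show mk (a ^ p ^ k) = 1
  have hsol1 : IsPSolvable p (H ⧸ B) := Cfsg.Lib.GaschutzYen.isPSolvable_quotient B hsol
  have hO1 : piCore π (H ⧸ B) = ⊥ := piCore_quotient_piCore
  have hOp1 : pCore p (H ⧸ B) = ⊥ := by
    haveI := pCore_normal' (G := H ⧸ B) p
    have hpπ : p ∈ π := hπdef ▸ Set.mem_insert_of_mem _ (Set.mem_singleton p)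
    have h1 : IsPGroup p (pCore p (H ⧸ B)) := isPGroup_pCore p
    have h2 : pCore p (H ⧸ B) ≤ piCore π (H ⧸ B) :=
      @isPGroup_le_piCore (H ⧸ B) _ _ π p hp.out hpπ (pCore p (H ⧸ B)) (pCore_normal' p) h1
    rw [hO1] at h2
    exact eq_bot_iff.2 h2
  set R := pPrimeCore p (H ⧸ B) with hR
  haveI : R.Normal := pPrimeCore_normal' p
  set x₁ := mk a with hx₁
  have hx₁p : x₁ ^ p ^ (k + 1) = 1 := by rw [hx₁, ← map_pow, ha, map_one]
  have hxg : IsPGroup p (zpowers x₁) := by
    obtain ⟨i, -, hi⟩ := (Nat.dvd_prime_pow hp.out).1 (orderOf_dvd_of_pow_eq_one hx₁p)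
    exact IsPGroup.of_card (n := i) (by rw [Nat.card_zpowers, hi])
  set y₁ := x₁ ^ p ^ k with hy₁
  have hmka : mk (a ^ p ^ k) = y₁ := map_pow mk a _
  rw [hmka]
  have hcent : ∀ q : ℕ, q.Prime → q ≠ 2 → ∀ T : Subgroup (H ⧸ B), T ≤ R → IsPGroup q T →
      x₁ ∈ normalizer (T : Set (H ⧸ B)) → ∀ t ∈ T, t * y₁ = y₁ * t := by
    intro q hq hq2 T hTR hT hxT t₀ ht₀
    haveI := Fact.mk hq
    rcases eq_or_ne q p with rfl | hqp
    · have hT1 : T = ⊥ := by
        obtain ⟨i, hi⟩ := IsPGroup.iff_card.1 hT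
        refine eq_bot_of_card_eq T ?_
        rcases Nat.eq_zero_or_pos i with rfl | hipos
        · simpa using hi
        · exact absurd (Nat.eq_one_of_dvd_coprimes (coprime_card_pPrimeCore (G := H ⧸ B) q)
            ((dvd_pow_self q hipos.ne').trans (hi ▸ card_dvd_of_le hTR)) dvd_rfl) hq.ne_one
      rw [hT1, mem_bot] at ht₀
      rw [ht₀, one_mul, mul_one]
    by_contra hne
    set X := T.comap mk with hX
    obtain ⟨S⟩ := (inferInstance : Nonempty (Sylow q X))
    have haX : a ∈ normalizer (X : Set H) := by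
      refine mem_normalizer_iff.2 fun z => ?_
      rw [hX, mem_comap, mem_comap, map_mul, map_mul, map_inv]
      exact mem_normalizer_iff.1 hxT _
    obtain ⟨u, hu, hun⟩ := exists_mul_mem_normalizer X S a haX
    set S₀ := (S : Subgroup X).map X.subtype with hS₀
    have hS₀q : IsPGroup q S₀ := S.2.map _
    have hSimg : S₀.map mk = T := by
      have hle : S₀.map mk ≤ T := map_le_iff_le_comap.2 (map_subtype_le _)
      refine Subgroup.eq_of_le_of_card_ge hle (le_of_eq ?_)
      have hBq : ¬ q ∣ Nat.card B := fun hd => by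
        have hqπ := piCore_isPi π q hq hd
        rw [← hπdef] at hqπ
        rcases hqπ with h | h
        exacts [hq2 h, hqp h]
      have hinj : Function.Injective (mk.comp S₀.subtype) := by
        refine (injective_iff_map_eq_one _).2 fun s hs => ?_
        have hsB : (s : H) ∈ B := (QuotientGroup.eq_one_iff _).1 hs
        refine Subtype.ext (orderOf_eq_one_iff.1 ?_)
        obtain ⟨i, hi⟩ := IsPGroup.iff_card.1 hS₀q
        refine Nat.eq_one_of_dvd_coprimes ((hq.coprime_iff_not_dvd.2 hBq).pow_left i) ?_ ?_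
        · rw [← hi]; exact (orderOf_coe s).symm ▸ orderOf_dvd_natCard s
        · have h := orderOf_dvd_natCard (⟨(s : H), hsB⟩ : B)
          rwa [Subgroup.orderOf_mk] at h
      have h1 : Nat.card (S₀.map mk) = Nat.card S₀ := by
        have h0 : (mk.comp S₀.subtype).range = S₀.map mk := by
          rw [MonoidHom.range_comp, S₀.range_subtype]
        rw [← h0]
        exact (Nat.card_congr (MonoidHom.ofInjective hinj).toEquiv).symm
      rw [h1, hS₀, Subgroup.card_map_of_injective X.subtype_injective, S.card_eq_multiplicity,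
        hX, card_comap_of_surjective hmks, QuotientGroup.ker_mk',
        Nat.factorization_mul Nat.card_pos.ne' Nat.card_pos.ne', Finsupp.add_apply,
        Nat.factorization_eq_zero_of_not_dvd hBq, zero_add]
      obtain ⟨i, hi⟩ := IsPGroup.iff_card.1 hT
      rw [hi, hq.factorization_pow, Finsupp.single_eq_same]
    set x' := u * a with hx'
    set N := orderOf x' with hN
    have hN0 : N ≠ 0 := (orderOf_pos x').ne'
    obtain ⟨e, he1, he2⟩ : ∃ e : ℕ, (∃ j, e = 1 + p ^ (k + 1) * j) ∧ ordCompl[p] N ∣ e := by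
      have hco : (p ^ (k + 1)).Coprime (ordCompl[p] N) :=
        (Nat.coprime_ordCompl hp.out hN0).pow_left _
      obtain ⟨e, he, he'⟩ := Nat.chineseRemainder hco 1 0
      refine ⟨e + p ^ (k + 1) * ordCompl[p] N, ?_, ?_⟩
      · have h1 : 1 ≤ e + p ^ (k + 1) * ordCompl[p] N :=
          le_add_left (Nat.mul_pos (pow_pos hp.out.pos _) (Nat.ordCompl_pos p hN0))
        have h2 : e + p ^ (k + 1) * ordCompl[p] N ≡ 1 [MOD p ^ (k + 1)] := by
          simpa [Nat.ModEq, Nat.add_mul_mod_self_left] using he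
        obtain ⟨j, hj⟩ := (Nat.modEq_iff_dvd' h1).1 h2.symm
        exact ⟨j, by omega⟩
      · exact dvd_add (Nat.modEq_zero_iff_dvd.1 he') (dvd_mul_left _ _)
    obtain ⟨j, rfl⟩ := he1
    set b := x' ^ (1 + p ^ (k + 1) * j) with hb
    have hbg : IsPGroup p (zpowers b) := by
      have h1 : b ^ (ordProj[p] N) = 1 := by
        rw [hb, ← pow_mul]
        refine orderOf_dvd_iff_pow_eq_one.1 ?_
        rw [← hN]
        conv_lhs => rw [← Nat.ordProj_mul_ordCompl_eq_self N p]
        rw [mul_comm (ordProj[p] N)]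
        exact mul_dvd_mul_right he2 _
      obtain ⟨i, -, hi⟩ := (Nat.dvd_prime_pow hp.out).1 (orderOf_dvd_of_pow_eq_one h1)
      exact IsPGroup.of_card (n := i) (by rw [Nat.card_zpowers, hi])
    have hbe : b ^ p ^ (k + 1) = 1 := pow_eq_one_of_exp hexp hbg
    have hbS : b ∈ normalizer (S₀ : Set H) := pow_mem hun _
    refine full_degree hp2 hsol ρ hρ hq hq2 hqp S₀ hS₀q k b hbe hbS ?_ (hnorm b ?_)
    swap
    · obtain ⟨i, -, hi⟩ := (Nat.dvd_prime_pow hp.out).1 (orderOf_dvd_of_pow_eq_one hbe)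
      exact ⟨i, hi⟩
    by_contra hall
    push Not at hall
    set y' := b ^ p ^ k with hy'
    have hy'p : mk y' ^ p = 1 := by rw [hy', ← map_pow, ← pow_mul, ← pow_succ, hbe, map_one]
    have hyT : ∀ t ∈ T, t * mk y' = mk y' * t := by
      intro t ht
      rw [← hSimg] at ht
      obtain ⟨s, hs, rfl⟩ := ht
      rw [← map_mul, ← map_mul, hall s hs]
    obtain ⟨t', ht', et⟩ := mul_pow_mem (show mk u ∈ T from hu) hxT ((1 + p ^ (k + 1) * j) * p ^ k)
    have ey : mk y' = t' * y₁ := by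
      rw [hy', hb, ← pow_mul, map_pow, hx', map_mul, ← hx₁, et, Nat.add_mul, one_mul, pow_add,
        mul_assoc (p ^ (k + 1)), pow_mul x₁ (p ^ (k + 1)), hx₁p, one_pow, mul_one, hy₁]
    have hy1p : y₁ ^ p = 1 := by rw [hy₁, ← pow_mul, ← pow_succ, hx₁p]
    have hc : Commute t'⁻¹ (mk y') := (hyT _ (inv_mem ht'))
    have et' : y₁ = t'⁻¹ * mk y' := by rw [ey, inv_mul_cancel_left]
    have htp : t'⁻¹ ^ p = 1 := by
      rw [et', hc.mul_pow, hy'p, mul_one] at hy1p
      exact hy1p
    have ht1 : t'⁻¹ = 1 := by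
      obtain ⟨i, hi⟩ := IsPGroup.iff_card.1 hT
      refine orderOf_eq_one_iff.1 (Nat.eq_one_of_dvd_coprimes (Nat.coprime_pow_primes 1 i hp.out hq (Ne.symm hqp))
        (by rw [pow_one]; exact orderOf_dvd_of_pow_eq_one htp) ?_)
      have h := orderOf_dvd_natCard (⟨t'⁻¹, inv_mem ht'⟩ : T)
      rwa [Subgroup.orderOf_mk, hi] at h
    rw [ht1, one_mul] at et'
    exact hne (by rw [et']; exact hyT t₀ ht₀)
  obtain ⟨M, hMn, hM2, hM⟩ := commutator_mem_two R x₁ y₁ hxg (pow_mem (mem_zpowers x₁) _)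
    (coprime_card_pPrimeCore p) hcent
  haveI := hMn
  have hMbot : M = ⊥ := by
    rw [eq_bot_iff, ← hO1]
    exact isPGroup_le_piCore Nat.prime_two (hπdef ▸ Set.mem_insert _ _) hM2
  have hyR : y₁ ∈ R := by
    refine Cfsg.Agent.S4748.centralizer_pPrimeCore_le p hsol1 hOp1 (mem_centralizer_iff.2 fun n hn => ?_)
    have h := hM n hn
    rw [hMbot, mem_bot, mul_inv_eq_one] at h
    calc n * y₁ = n * y₁ * n⁻¹ * n := by group
      _ = y₁ * n := by rw [h]
  refine orderOf_eq_one_iff.1 (Nat.eq_one_of_dvd_coprimes (Nat.Coprime.pow_left (k + 1)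
    (coprime_card_pPrimeCore (G := H ⧸ B) p).symm) ?_ ?_)
  · refine orderOf_dvd_of_pow_eq_one ?_
    rw [hy₁, ← pow_mul, mul_comm, pow_mul, hx₁p, one_pow]
  · have h := orderOf_dvd_natCard (⟨y₁, hyR⟩ : R)
    rwa [Subgroup.orderOf_mk] at h

/-- In a `p`-soluble group in which `p^(k+1)` bounds the exponent of the Sylow `p`-subgroups, the
`p^k`-th power of a `p`-element lies in `O_{p', {2,p}}`. -/
theorem socle_mem_piCore (hp2 : p ≠ 2) (hsol : IsPSolvable p H) (k : ℕ)
    (hexp : ∀ P : Sylow p H, ∀ x ∈ (P : Subgroup H), x ^ p ^ (k + 1) = 1)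
    (a : H) (ha : a ^ p ^ (k + 1) = 1) :
    QuotientGroup.mk' (pPrimeCore p H) (a ^ p ^ k) ∈ piCore ({2, p} : Set ℕ) (H ⧸ pPrimeCore p H) := by
  set f := QuotientGroup.mk' (pPrimeCore p H)
  have hf : Function.Surjective f := QuotientGroup.mk'_surjective _
  have hO : pPrimeCore p (H ⧸ pPrimeCore p H) = ⊥ := Cfsg.Lib.Coprime.pPrimeCore_quotient_eq_bot
  have hsol1 := Cfsg.Lib.GaschutzYen.isPSolvable_quotient (p := p) (pPrimeCore p H) hsol
  have hexp1 := Cfsg.Agent.S3783.exp_map f hf hexp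
  set g := QuotientGroup.mk' (pCore p (H ⧸ pPrimeCore p H)) with hg
  have hgs : Function.Surjective g := QuotientGroup.mk'_surjective _
  obtain ⟨V, iA, iM, iF, ρ, hρ, hnorm⟩ :=
    Cfsg.Lib.HallHigman.exists_faithful_module hsol1 hO (k + 1) hexp1
  have h := socle_mem_piCore_of_module hp2
    (Cfsg.Lib.GaschutzYen.isPSolvable_quotient (p := p) (pCore p (H ⧸ pPrimeCore p H)) hsol1) ρ hρ k
    (Cfsg.Agent.S3783.exp_map g hgs hexp1) hnorm (g (f a)) (by rw [← map_pow, ← map_pow, ha, map_one, map_one])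
  rw [← map_pow, ← map_pow] at h
  refine (show (piCore ({2, p} : Set ℕ) _).comap g ≤ piCore {2, p} (H ⧸ pPrimeCore p H) from
    le_piCore fun q hq hd => ?_) h
  rw [card_comap_of_surjective hgs, QuotientGroup.ker_mk'] at hd
  rcases hq.dvd_mul.1 hd with h1 | h1
  · obtain ⟨i, hi⟩ := IsPGroup.iff_card.1 (isPGroup_pCore (G := H ⧸ pPrimeCore p H) p)
    rw [hi] at h1
    exact Set.mem_insert_of_mem _ ((Nat.prime_dvd_prime_iff_eq hq hp.out).1 (hq.dvd_of_dvd_pow h1))
  · exact piCore_isPi _ q hq h1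

end Cfsg.Lib.PowellGen
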