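import Mathlib
import Cfsg.Prelude
import Cfsg.Agent.PowellGen.Local
import Cfsg.Agent.S0199
import Cfsg.Agent.S0144

/-!
Powell's theorem on generation of a simple group with `p`-soluble proper subgroups by three
elements.
-/

set_option autoImplicit false
set_option linter.unusedSectionVars false
set_option linter.style.haveILetI false

namespace Cfsg.Lib.PowellGen

open Subgroup Cfsg.Lib.Elementary Cfsg.Lib.Components Cfsg.Lib.Coprime

universe u

variable {p : ℕ} [hp : Fact p.Prime]

/-- If every pair of conjugates of an element `y` of order `p` generates a `{2,p}`-group and `y`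
lies in `O_{p',{2,p}}`, then `y` lies in `O_{2,p}`. -/
theorem mem_piCore_of_pairs {H : Type u} [Group H] [Finite H] {y : H}
    (hyp : y ^ p = 1)
    (hy : QuotientGroup.mk' (pPrimeCore p H) y ∈ piCore ({2, p} : Set ℕ) (H ⧸ pPrimeCore p H))
    (hpairs : ∀ h : H, IsPiNat ({2, p} : Set ℕ) (Nat.card (closure ({y, h * y * h⁻¹} : Set H)))) :
    y ∈ piCore ({2, p} : Set ℕ) H := by
  classical
  generalize hπdef : ({2, p} : Set ℕ) = π at hy hpairs
  set O := pPrimeCore p H with hO
  haveI : O.Normal := pPrimeCore_normal' p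
  have hcopO : (Nat.card O).Coprime p := coprime_card_pPrimeCore p
  have hyg : IsPGroup p (zpowers y) := by
    obtain ⟨i, -, hi⟩ := (Nat.dvd_prime_pow hp.out).1
      (show orderOf y ∣ p ^ 1 by rw [pow_one]; exact orderOf_dvd_of_pow_eq_one hyp)
    exact IsPGroup.of_card (n := i) (by rw [Nat.card_zpowers, hi])
  obtain ⟨M, hMn, hM2, hM⟩ := commutator_mem_two O y y hyg (mem_zpowers y) hcopO (by
    intro q hq hq2 T hTO hT hyT t ht
    set c := t * y * t⁻¹ * y⁻¹ with hc
    have hcT : c ∈ T := by
      rw [hc, show t * y * t⁻¹ * y⁻¹ = t * (y * t⁻¹ * y⁻¹) by group]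
      exact mul_mem ht ((mem_normalizer_iff.1 hyT _).1 (inv_mem ht))
    have hcK : c ∈ closure ({y, t * y * t⁻¹} : Set H) :=
      mul_mem (Subgroup.subset_closure (Or.inr rfl)) (inv_mem (Subgroup.subset_closure (Or.inl rfl)))
    suffices hc1 : c = 1 by
      rw [hc, mul_inv_eq_one] at hc1
      calc t * y = t * y * t⁻¹ * t := by group
        _ = y * t := by rw [hc1]
    refine orderOf_eq_one_iff.1 (Nat.eq_one_iff_not_exists_prime_dvd.2 fun r hr hd => ?_)
    have h1 : r ∣ Nat.card T := hd.trans (by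
      have h := orderOf_dvd_natCard (⟨c, hcT⟩ : T)
      rwa [Subgroup.orderOf_mk] at h)
    have h2 := hpairs t r hr (hd.trans (by
      have h := orderOf_dvd_natCard (⟨c, hcK⟩ : closure ({y, t * y * t⁻¹} : Set H))
      rwa [Subgroup.orderOf_mk] at h))
    haveI := Fact.mk hq
    obtain ⟨i, hi⟩ := IsPGroup.iff_card.1 hT
    have hrq : r = q := (Nat.prime_dvd_prime_iff_eq hr hq).1 (hr.dvd_of_dvd_pow (hi ▸ h1))
    have hrp : r ≠ p := by
      rintro rfl
      exact hr.ne_one (Nat.eq_one_of_dvd_coprimes hcopO (h1.trans (card_dvd_of_le hTO)) dvd_rfl)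
    rw [← hπdef] at h2
    rcases h2 with h2 | h2
    exacts [hq2 (hrq ▸ h2), hrp h2])
  haveI := hMn
  set g := QuotientGroup.mk' M with hg
  have hgs : Function.Surjective g := QuotientGroup.mk'_surjective M
  have hpπ : p ∈ π := hπdef ▸ Set.mem_insert_of_mem _ (Set.mem_singleton p)
  have h2π : 2 ∈ π := hπdef ▸ Set.mem_insert _ _
  set L := normalClosure ({g y} : Set (H ⧸ M)) with hL
  haveI : (O.map g).Normal := Subgroup.Normal.map inferInstance _ hgs
  have hcent : L ≤ centralizer ((O.map g : Subgroup (H ⧸ M)) : Set (H ⧸ M)) := by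
    refine normalClosure_le_normal ?_
    rw [Set.singleton_subset_iff]
    refine mem_centralizer_iff.2 ?_
    rintro _ ⟨n, hn, rfl⟩
    have h : g (n * y * n⁻¹ * y⁻¹) = 1 := (QuotientGroup.eq_one_iff _).2 (hM n hn)
    rw [map_mul, map_mul, map_mul, map_inv, map_inv, mul_inv_eq_one] at h
    calc g n * g y = g n * g y * (g n)⁻¹ * g n := by group
      _ = g y * g n := by rw [h]
  set Bc := (piCore π (H ⧸ O)).comap (QuotientGroup.mk' O) with hBc
  haveI : Bc.Normal := (piCore_normal π (H ⧸ O)).comap _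
  have hLB : L ≤ Bc.map g := by
    haveI : (Bc.map g).Normal := Subgroup.Normal.map inferInstance _ hgs
    refine normalClosure_le_normal ?_
    rw [Set.singleton_subset_iff]
    exact mem_map_of_mem _ hy
  set m := Nat.card (piCore π (H ⧸ O)) with hm
  have hLc : ∀ x : L, x ^ m ∈ center L := by
    intro x
    obtain ⟨z, hz, hzx⟩ := hLB x.2
    have h1 : (QuotientGroup.mk' O z) ^ m = 1 := by
      have h := pow_card_eq_one' (G := piCore π (H ⧸ O)) (x := ⟨_, hz⟩)
      exact congrArg Subtype.val h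
    rw [← map_pow] at h1
    have h2 : ((x ^ m : L) : H ⧸ M) ∈ O.map g :=
      ⟨z ^ m, (QuotientGroup.eq_one_iff _).1 h1, by rw [map_pow, hzx]; rfl⟩
    refine mem_center_iff.2 fun w => Subtype.ext ?_
    exact (mem_centralizer_iff.1 (hcent w.2) _ h2).symm
  have hidx : IsPiNat π (center L).index := by
    intro r hr hd
    haveI := Fact.mk hr
    obtain ⟨z, hz⟩ := exists_prime_orderOf_dvd_card' r hd
    obtain ⟨x, rfl⟩ := QuotientGroup.mk_surjective z
    have h1 : orderOf (x : L ⧸ center L) ∣ m := orderOf_dvd_of_pow_eq_one (by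
      rw [← QuotientGroup.mk_pow, QuotientGroup.eq_one_iff]; exact hLc x)
    exact piCore_isPi π r hr (hz ▸ h1)
  have hexpL : ∀ x ∈ L, x ^ ((center L).index * p) = 1 := by
    let f : L →* center L := MonoidHom.transferCenterPow L
    let K : Subgroup L :=
      { carrier := {x | f x ^ p = 1}
        mul_mem' := by
          intro a b ha hb
          show f (a * b) ^ p = 1
          haveI : IsMulCommutative (center L) := inferInstance
          rw [map_mul, (show Commute (f a) (f b) from IsMulCommutative.is_comm.comm _ _).mul_pow,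
            show f a ^ p = 1 from ha, show f b ^ p = 1 from hb, one_mul]
        one_mem' := by show f 1 ^ p = 1; rw [map_one, one_pow]
        inv_mem' := by
          intro a ha
          show f a⁻¹ ^ p = 1
          rw [map_inv, inv_pow, show f a ^ p = 1 from ha, inv_one] }
    have hK : L ≤ K.map L.subtype := by
      refine (closure_le _).2 fun x hx => ?_
      have hxL : x ∈ L := Subgroup.subset_closure hx
      refine ⟨⟨x, hxL⟩, ?_, rfl⟩
      show f ⟨x, hxL⟩ ^ p = 1
      rw [← map_pow, show (⟨x, hxL⟩ : L) ^ p = 1 from Subtype.ext ?_, map_one]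
      obtain ⟨a, ha, hax⟩ := Group.mem_conjugatesOfSet_iff.1 hx
      obtain rfl : a = g y := ha
      obtain ⟨c, rfl⟩ := isConj_iff.1 hax
      show (c * g y * c⁻¹) ^ p = 1
      rw [conj_pow, ← map_pow, hyp, map_one, mul_one, mul_inv_cancel]
    intro x hx
    obtain ⟨⟨x', hx'⟩, hxK, rfl⟩ := hK hx
    have h : f ⟨x', hx'⟩ ^ p = 1 := hxK
    have h' := congrArg (fun z : center L => ((z : L) : H ⧸ M)) h
    simp only [f, SubgroupClass.coe_pow, MonoidHom.transferCenterPow_apply, OneMemClass.coe_one] at h'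
    rw [pow_mul]
    exact h'
  have hLpi : IsPiNat π (Nat.card L) := by
    intro r hr hd
    haveI := Fact.mk hr
    obtain ⟨z, hz⟩ := exists_prime_orderOf_dvd_card' r hd
    have h1 : r ∣ (center L).index * p := hz ▸ orderOf_dvd_of_pow_eq_one
      (Subtype.ext (by simpa using hexpL z z.2))
    rcases hr.dvd_mul.1 h1 with h | h
    · exact hidx r hr h
    · rwa [(Nat.prime_dvd_prime_iff_eq hr hp.out).1 h]
  haveI : (L.comap g).Normal := Subgroup.Normal.comap inferInstance _
  refine (show L.comap g ≤ piCore π H from le_piCore fun r hr hd => ?_) (subset_normalClosure rfl)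
  rw [card_comap_of_surjective hgs, QuotientGroup.ker_mk'] at hd
  rcases hr.dvd_mul.1 hd with h | h
  · obtain ⟨i, hi⟩ := IsPGroup.iff_card.1 hM2
    rw [hi] at h
    rwa [(Nat.prime_dvd_prime_iff_eq hr Nat.prime_two).1 (hr.dvd_of_dvd_pow h)]
  · exact hLpi r hr h

/-- A union of classes closed under right multiplication by `w ≠ 1` is everything, in a simple
group. -/
theorem mem_of_mul_closed {G : Type u} [Group G] [IsSimpleGroup G] (S : Set G)
    (hS1 : (1 : G) ∈ S) (hconj : ∀ c g : G, g ∈ S → c * g * c⁻¹ ∈ S) (w : G) (hw : w ≠ 1)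
    (h : ∀ g ∈ S, g * w ∈ S ∧ g * w⁻¹ ∈ S) (t : G) : t ∈ S := by
  let T : Subgroup G :=
    { carrier := {t | ∀ g ∈ S, g * t ∈ S ∧ g * t⁻¹ ∈ S}
      mul_mem' := by
        intro a b ha hb g hg
        refine ⟨by rw [← mul_assoc]; exact (hb _ (ha g hg).1).1, ?_⟩
        rw [mul_inv_rev, ← mul_assoc]
        exact (ha _ (hb g hg).2).2
      one_mem' := by intro g hg; simp [hg]
      inv_mem' := by
        intro a ha g hg
        exact ⟨(ha g hg).2, by rw [inv_inv]; exact (ha g hg).1⟩ }
  haveI : T.Normal := ⟨fun a ha c g hg => by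
    have hg' : c⁻¹ * g * c ∈ S := by simpa using hconj c⁻¹ g hg
    constructor
    · have h1 := hconj c _ (ha _ hg').1
      rwa [show c * (c⁻¹ * g * c * a) * c⁻¹ = g * (c * a * c⁻¹) by group] at h1
    · have h1 := hconj c _ (ha _ hg').2
      rwa [show c * (c⁻¹ * g * c * a⁻¹) * c⁻¹ = g * (c * a * c⁻¹)⁻¹ by group] at h1⟩
  have hT : T = ⊤ := by
    rcases (inferInstance : T.Normal).eq_bot_or_eq_top with hT | hT
    · exact absurd ((Subgroup.eq_bot_iff_forall T).1 hT w h) hw
    · exact hT
  have := ((hT ▸ mem_top t : t ∈ T) 1 hS1).1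
  rwa [one_mul] at this

theorem card_two_primes {n : ℕ} (hn : n ≠ 0) (hp2 : p ≠ 2) (h : IsPiNat ({2, p} : Set ℕ) n) :
    n = 2 ^ n.factorization 2 * p ^ n.factorization p := by
  refine Nat.eq_of_factorization_eq hn (mul_ne_zero (pow_ne_zero _ two_ne_zero) (pow_ne_zero _ hp.out.ne_zero)) fun r => ?_
  rw [Nat.factorization_mul (by positivity) (pow_ne_zero _ hp.out.ne_zero), Finsupp.add_apply,
    Nat.prime_two.factorization_pow, hp.out.factorization_pow, Finsupp.single_apply,
    Finsupp.single_apply]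
  by_cases h2 : 2 = r
  · subst h2
    rw [if_pos rfl, if_neg hp2, add_zero]
  by_cases hpr : p = r
  · subst hpr
    rw [if_neg h2, if_pos rfl, zero_add]
  rw [if_neg h2, if_neg hpr, add_zero]
  by_contra h0
  have hr : r ∈ n.primeFactors := Nat.support_factorization n ▸ Finsupp.mem_support_iff.2 h0
  rcases h r (Nat.prime_of_mem_primeFactors hr) (Nat.dvd_of_mem_primeFactors hr) with h1 | h1
  exacts [h2 h1.symm, hpr h1.symm]

theorem three_generated {G : Type u} [Group G] [Finite G] [IsSimpleGroup G]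
    (hna : ¬ IsMulCommutative G) (hp2 : p ≠ 2) (hdvd : p ∣ Nat.card G)
    (hprop : ∀ H : Subgroup G, H ≠ ⊤ → IsPSolvable p ↥H) :
    ∃ x y z : G, closure ({x, y, z} : Set G) = ⊤ := by
  classical
  by_contra hcon
  push Not at hcon
  -- an element of largest `p`-power order
  obtain ⟨x₀, hx₀⟩ := exists_prime_orderOf_dvd_card' (G := G) p hdvd
  obtain ⟨n, ⟨a, ha⟩, hmax⟩ : ∃ n, (∃ a : G, orderOf a = p ^ n) ∧
      ∀ m, (∃ a : G, orderOf a = p ^ m) → m ≤ n := by
    have hbd : ∀ m, (∃ a : G, orderOf a = p ^ m) → m ≤ Nat.card G := by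
      rintro m ⟨a, ha⟩
      have h1 : p ^ m ≤ Nat.card G := ha ▸ Nat.le_of_dvd Nat.card_pos (orderOf_dvd_natCard a)
      exact ((Nat.lt_pow_self hp.out.one_lt).le).trans h1
    obtain ⟨n, hn, hn'⟩ := (Set.Finite.subset (Set.finite_le_nat (Nat.card G)) hbd).exists_maximal
      (⟨1, x₀, by rw [hx₀, pow_one]⟩ : {m | ∃ a : G, orderOf a = p ^ m}.Nonempty)
    exact ⟨n, hn, fun m hm => le_of_not_gt fun hlt => absurd (hn' hm hlt.le) (not_le.2 hlt)⟩
  obtain ⟨k, rfl⟩ : ∃ k, n = k + 1 := ⟨n - 1, by have := hmax 1 ⟨x₀, by rw [hx₀, pow_one]⟩; omega⟩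
  have hexpG : ∀ x : G, IsPGroup p (zpowers x) → x ^ p ^ (k + 1) = 1 := by
    intro x hx
    obtain ⟨i, hi⟩ := IsPGroup.iff_card.1 hx
    rw [Nat.card_zpowers] at hi
    exact orderOf_dvd_iff_pow_eq_one.1 (hi ▸ pow_dvd_pow p (hmax i ⟨x, hi⟩))
  set y := a ^ p ^ k with hy
  have hapow : a ^ p ^ (k + 1) = 1 := ha ▸ pow_orderOf_eq_one a
  have hy1 : y ≠ 1 := fun h => by
    have h1 := Nat.le_of_dvd (pow_pos hp.out.pos _) (ha ▸ orderOf_dvd_of_pow_eq_one h)
    exact absurd h1 (not_le.2 (Nat.pow_lt_pow_right hp.out.one_lt (Nat.lt_succ_self k)))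
  have hyp : y ^ p = 1 := by rw [hy, ← pow_mul, ← pow_succ, hapow]
  -- the socle of a maximal element in proper subgroups
  have hloc : ∀ H : Subgroup G, H ≠ ⊤ → ∀ c : G, ∀ hc : c * a * c⁻¹ ∈ H,
      QuotientGroup.mk' (pPrimeCore p H)
        (⟨c * y * c⁻¹, by rw [hy, ← conj_pow]; exact pow_mem hc _⟩ : H) ∈
        piCore ({2, p} : Set ℕ) (H ⧸ pPrimeCore p H) := by
    intro H hH c hc
    have h := socle_mem_piCore (H := H) hp2 (hprop H hH) k (fun P x hx => Subtype.ext (by
      rw [SubgroupClass.coe_pow, OneMemClass.coe_one]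
      refine hexpG x ?_
      obtain ⟨i, hi⟩ := P.2 ⟨x, hx⟩
      have h1 : (x : G) ^ p ^ i = 1 := by
        simpa using congrArg (fun z : (P : Subgroup H) => ((z : H) : G)) hi
      obtain ⟨j, -, hj⟩ := (Nat.dvd_prime_pow hp.out).1 (orderOf_dvd_of_pow_eq_one h1)
      exact IsPGroup.of_card (n := j) (by rw [Nat.card_zpowers, hj])))
      ⟨c * a * c⁻¹, hc⟩ (Subtype.ext (by simp [conj_pow, hapow]))
    convert h using 2
    exact Subtype.ext (by simp [conj_pow, hy])
  by_cases hpair : ∀ c : G, IsPiNat ({2, p} : Set ℕ) (Nat.card (closure ({y, c * y * c⁻¹} : Set G)))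
  · -- every element is a `{2,p}`-element
    set S : Set G := {g | IsPiNat ({2, p} : Set ℕ) (orderOf g)} with hS
    have hall : ∀ t : G, t ∈ S := by
      refine mem_of_mul_closed S ?_ ?_ y hy1 ?_
      · intro r hr hd
        rw [orderOf_one] at hd
        exact absurd hd hr.not_dvd_one
      · intro c g hg
        show IsPiNat _ (orderOf (c * g * c⁻¹))
        rwa [show c * g * c⁻¹ = MulAut.conj c g from rfl, MulEquiv.orderOf_eq]
      · intro g hg
        set H := closure ({a, g, g} : Set G) with hH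
        have haH : a ∈ H := Subgroup.subset_closure (Or.inl rfl)
        have hgH : g ∈ H := Subgroup.subset_closure (Or.inr (Or.inl rfl))
        have hyH : y ∈ H := pow_mem haH _
        have hHt : H ≠ ⊤ := hcon a g g
        have hmem : (⟨y, hyH⟩ : H) ∈ piCore ({2, p} : Set ℕ) H := by
          refine mem_piCore_of_pairs (p := p) (Subtype.ext (by simpa using hyp)) ?_ ?_
          · have h := hloc H hHt 1 (by simpa using haH)
            simpa using h
          · intro h r hr hd
            refine hpair h r hr ?_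
            rw [← Subgroup.card_map_of_injective H.subtype_injective, MonoidHom.map_closure,
              Set.image_pair] at hd
            simpa using hd
        have key : ∀ z ∈ piCore ({2, p} : Set ℕ) H, g * (z : G) ∈ S := by
          intro z hz r hr hd
          set o := orderOf g
          have h1 : ((⟨g, hgH⟩ * z : H)) ^ o ∈ piCore ({2, p} : Set ℕ) H := by
            rw [← QuotientGroup.eq_one_iff, QuotientGroup.mk_pow, QuotientGroup.mk_mul,
              (QuotientGroup.eq_one_iff z).2 hz, mul_one, ← QuotientGroup.mk_pow]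
            rw [show (⟨g, hgH⟩ : H) ^ o = 1 from Subtype.ext (pow_orderOf_eq_one g)]
            rfl
          have h2 := congrArg Subtype.val (pow_card_eq_one'
            (G := piCore ({2, p} : Set ℕ) H) (x := ⟨_, h1⟩))
          have h3 : (g * (z : G)) ^ (o * Nat.card (piCore ({2, p} : Set ℕ) H)) = 1 := by
            rw [pow_mul]
            exact congrArg Subtype.val h2
          rcases hr.dvd_mul.1 (hd.trans (orderOf_dvd_of_pow_eq_one h3)) with h | h
          exacts [hg r hr h, piCore_isPi _ r hr h]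
        exact ⟨key ⟨y, hyH⟩ hmem, key _ (inv_mem hmem)⟩
    have hpi : IsPiNat ({2, p} : Set ℕ) (Nat.card G) := by
      intro r hr hd
      haveI := Fact.mk hr
      obtain ⟨z, hz⟩ := exists_prime_orderOf_dvd_card' r hd
      exact hall z r hr (hz ▸ dvd_rfl)
    have hsol : Group.IsSolvable G := Cfsg.Agent.S0144.result 2 p _ _ Nat.prime_two hp.out
      (card_two_primes Nat.card_pos.ne' hp2 hpi)
    exact hna ⟨⟨IsSimpleGroup.comm_iff_isSolvable.2 hsol⟩⟩
  · -- a pair of conjugates with another prime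
    push Not at hpair
    obtain ⟨c, hc⟩ := hpair
    obtain ⟨r, hr, hrd, hrπ⟩ : ∃ r, r.Prime ∧ r ∣ Nat.card (closure ({y, c * y * c⁻¹} : Set G)) ∧
        r ∉ ({2, p} : Set ℕ) := by
      simpa only [IsPiNat, not_forall, exists_prop] using hc
    haveI := Fact.mk hr
    obtain ⟨⟨w, hwM⟩, hw⟩ := exists_prime_orderOf_dvd_card'
      (G := closure ({y, c * y * c⁻¹} : Set G)) r hrd
    rw [Subgroup.orderOf_mk] at hw
    have hw1 : w ≠ 1 := fun h => hr.ne_one (by rw [← hw, h, orderOf_one])
    set S : Set G := {g | (orderOf g).Coprime p} with hS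
    have hall : ∀ t : G, t ∈ S := by
      refine mem_of_mul_closed S (by show Nat.Coprime _ _; rw [orderOf_one]; exact Nat.coprime_one_left p)
        ?_ w hw1 ?_
      · intro d g hg
        show (orderOf (d * g * d⁻¹)).Coprime p
        rwa [show d * g * d⁻¹ = MulAut.conj d g from rfl, MulEquiv.orderOf_eq]
      · intro g hg
        set H := closure ({a, c * a * c⁻¹, g} : Set G) with hH
        have haH : a ∈ H := Subgroup.subset_closure (Or.inl rfl)
        have hcH : c * a * c⁻¹ ∈ H := Subgroup.subset_closure (Or.inr (Or.inl rfl))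
        have hgH : g ∈ H := Subgroup.subset_closure (Or.inr (Or.inr rfl))
        have hHt : H ≠ ⊤ := hcon a (c * a * c⁻¹) g
        set B := piCore ({2, p} : Set ℕ) (H ⧸ pPrimeCore p H)
        have hB : closure ({y, c * y * c⁻¹} : Set G) ≤
            (B.comap (QuotientGroup.mk' (pPrimeCore p H))).map H.subtype := by
          rw [closure_le]
          rintro z (rfl | rfl)
          · exact ⟨_, hloc H hHt 1 (by simpa using haH), by simp⟩
          · exact ⟨_, hloc H hHt c hcH, rfl⟩
        obtain ⟨⟨w', hw'H⟩, hwB, rfl⟩ := hB hwM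
        have hwO : (⟨w', hw'H⟩ : H) ∈ pPrimeCore p H := by
          rw [← QuotientGroup.eq_one_iff]
          have h1 : orderOf (QuotientGroup.mk' (pPrimeCore p H) ⟨w', hw'H⟩) ∣ r := by
            refine orderOf_dvd_of_pow_eq_one ?_
            rw [← map_pow, show (⟨w', hw'H⟩ : H) ^ r = 1 from
              Subtype.ext (by rw [← hw]; exact pow_orderOf_eq_one _), map_one]
          rcases (Nat.dvd_prime hr).1 h1 with h | h
          · exact orderOf_eq_one_iff.1 h
          · exfalso
            refine hrπ (piCore_isPi (G := H ⧸ pPrimeCore p H) _ r hr ?_)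
            have h2 : orderOf (QuotientGroup.mk' (pPrimeCore p H) ⟨w', hw'H⟩) ∣ Nat.card B :=
              (orderOf_injective B.subtype B.subtype_injective
                (⟨QuotientGroup.mk' (pPrimeCore p H) ⟨w', hw'H⟩, hwB⟩ : B)).symm ▸ orderOf_dvd_natCard _
            rw [h] at h2
            exact h2
        have key : ∀ z ∈ pPrimeCore p H, (orderOf (g * (z : G))).Coprime p := by
          intro z hz
          set o := orderOf g
          have h1 : ((⟨g, hgH⟩ * z : H)) ^ o ∈ pPrimeCore p H := by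
            rw [← QuotientGroup.eq_one_iff, QuotientGroup.mk_pow, QuotientGroup.mk_mul,
              (QuotientGroup.eq_one_iff z).2 hz, mul_one, ← QuotientGroup.mk_pow]
            rw [show (⟨g, hgH⟩ : H) ^ o = 1 from Subtype.ext (pow_orderOf_eq_one g)]
            rfl
          have h2 := congrArg Subtype.val (pow_card_eq_one' (G := pPrimeCore p H) (x := ⟨_, h1⟩))
          have h3 : (g * (z : G)) ^ (o * Nat.card (pPrimeCore p H)) = 1 := by
            rw [pow_mul]
            exact congrArg Subtype.val h2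
          exact Nat.Coprime.coprime_dvd_left (orderOf_dvd_of_pow_eq_one h3)
            (Nat.Coprime.mul_left hg (coprime_card_pPrimeCore p))
        exact ⟨key _ hwO, key _ (inv_mem hwO)⟩
    have h := hall x₀
    change Nat.Coprime (orderOf x₀) p at h
    rw [hx₀, Nat.coprime_self] at h
    exact hp.out.ne_one h

end Cfsg.Lib.PowellGen
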